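import Mathlib
import Cfsg.Prelude.Def_Balance
import Cfsg.Agent.Lib.Cores
import Cfsg.Agent.Lib.ThompsonPQ

set_option autoImplicit false

/-!
# A criterion for local balance

`N` is a normal subgroup of the finite group `Γ`, `x` an involution of `Γ`, `D` a group of odd order
centralised by `x` and normalised by `C(x)`. An involution `z` of `N` is *good* if `C_N(z)` has a
`2`-subgroup `V` normalised by `C_Γ(z)` and containing its centraliser in `C_N(z)`. If `x` commutes with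
the good involution `z` then `C_D(z)` centralises `C_N(z)`.
-/

namespace Cfsg.Agent.UGT.LB.Crit

open Subgroup

variable {Γ : Type*} [Group Γ]

/-- `z` is an involution of the normal subgroup `N` whose centraliser in `N` is `2`-constrained. -/
structure Good (N : Subgroup Γ) (z : Γ) : Prop where
  mem : z ∈ N
  sq : z * z = 1
  ne : z ≠ 1
  ex : ∃ V : Subgroup Γ, IsPGroup 2 V ∧ V ≤ N ∧ (∀ v ∈ V, v * z = z * v) ∧
    (∀ g, g * z = z * g → ∀ v ∈ V, g * v * g⁻¹ ∈ V) ∧
    (∀ c ∈ N, c * z = z * c → (∀ v ∈ V, c * v = v * c) → c ∈ V)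

/-- `D` is a subgroup of odd order of `C(x)` normalised by `C(x)`. -/
structure Core (x : Γ) (D : Subgroup Γ) : Prop where
  odd : Odd (Nat.card D)
  comm : ∀ d ∈ D, d * x = x * d
  conj : ∀ c, c * x = x * c → ∀ d ∈ D, c * d * c⁻¹ ∈ D

theorem eq_one_of_two_of_odd [Finite Γ] {V D : Subgroup Γ} (hV : IsPGroup 2 V) (hD : Odd (Nat.card D)) {g : Γ}
    (h1 : g ∈ V) (h2 : g ∈ D) : g = 1 := by
  have hc : (Nat.card V).Coprime (Nat.card D) := by
    obtain ⟨n, hn⟩ := IsPGroup.iff_card.mp hV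
    rw [hn]
    exact Nat.Coprime.pow_left n (Nat.coprime_two_left.mpr hD)
  have h3 := (Subgroup.disjoint_of_coprime_natCard hc).le_bot (show g ∈ V ⊓ D from ⟨h1, h2⟩)
  rwa [mem_bot] at h3

/-- **Lemma A.** `C_D(z)` centralises `C_N(z)`. -/
theorem cent_of_good [Finite Γ] {N : Subgroup Γ} [hN : N.Normal] {x z : Γ} {D : Subgroup Γ} (hz : Good N z)
    (hx : x * x = 1) (hxz : x * z = z * x) (hD : Core x D) {d : Γ} (hd : d ∈ D) (hdz : d * z = z * d) :
    ∀ c ∈ N, c * z = z * c → d * c = c * d := by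
  have : Fact (Nat.Prime 2) := ⟨Nat.prime_two⟩
  obtain ⟨V, hV2, hVN, hVz, hVn, hVc⟩ := hz.ex
  set Q : Subgroup Γ := D ⊓ centralizer {z} with hQ
  have hQz : ∀ q ∈ Q, q * z = z * q := fun q hq => mem_centralizer_singleton_iff.mp hq.2
  have hQodd : Odd (Nat.card Q) := hD.odd.of_dvd_nat (card_dvd_of_le inf_le_left)
  have hQV : Q ≤ centralizer (V : Set Γ) := by
    have hpx : IsPGroup 2 (zpowers x) := by
      intro y
      obtain ⟨y, n, rfl⟩ := y
      refine ⟨1, Subtype.ext ?_⟩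
      show (x ^ n) ^ (2 ^ 1) = 1
      rw [pow_one, ← zpow_natCast, ← zpow_mul, mul_comm, zpow_mul, zpow_natCast, pow_two, hx, one_zpow]
    have hzp : ∀ y ∈ zpowers x, ∀ g, g * x = x * g → g * y = y * g := by
      rintro _ ⟨n, rfl⟩ g hg
      exact (Commute.zpow_right (show Commute g x from hg) n).eq
    refine Cfsg.Agent.Lib.ThompsonPQ.thompson_p_times_q 2 (zpowers x) Q V hpx ?_ hV2 ?_ ?_ ?_ ?_
    · rw [Nat.coprime_two_right]; exact hQodd
    · intro y hy
      rw [mem_centralizer_iff]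
      intro q hq
      exact hzp y hy q (hD.comm q hq.1)
    · rw [zpowers_le, mem_normalizer_iff]
      intro v
      constructor
      · exact hVn x hxz v
      · intro h
        have hx' : x⁻¹ = x := inv_eq_of_mul_eq_one_left hx
        have h1 := hVn x hxz _ h
        have e : x * (x * v * x⁻¹) * x⁻¹ = (x * x) * v * (x * x)⁻¹ := by group
        rwa [e, hx, one_mul, inv_one, mul_one] at h1
    · intro q hq
      rw [mem_normalizer_iff]
      intro v
      constructor
      · exact hVn q (hQz q hq) v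
      · intro h
        have h2 : q⁻¹ * z = z * q⁻¹ := (Commute.inv_left (show Commute q z from hQz q hq)).eq
        have h1 := hVn q⁻¹ h2 _ h
        have e : q⁻¹ * (q * v * q⁻¹) * q⁻¹⁻¹ = v := by group
        rwa [e] at h1
    · rintro v ⟨hvV, hvx⟩
      have hvx' : v * x = x * v := by
        have := mem_centralizer_iff.mp hvx x (mem_zpowers x)
        exact this.symm
      rw [mem_centralizer_iff]
      intro q hq
      -- `[q, v] ∈ D ∩ V`
      have h1 : q * v * q⁻¹ * v⁻¹ = 1 := by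
        refine eq_one_of_two_of_odd hV2 hD.odd ?_ ?_
        · exact V.mul_mem (hVn q (hQz q hq) v hvV) (V.inv_mem hvV)
        · have e : q * v * q⁻¹ * v⁻¹ = q * (v * q⁻¹ * v⁻¹) := by group
          rw [e]
          exact D.mul_mem hq.1 (hD.conj v hvx' _ (D.inv_mem hq.1))
      have h2 : q * v = v * q := by
        have h3 : q * v * q⁻¹ = v := mul_inv_eq_one.mp h1
        rw [mul_inv_eq_iff_eq_mul] at h3
        exact h3
      exact h2
  have hdQ : d ∈ Q := ⟨hd, mem_centralizer_singleton_iff.mpr hdz⟩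
  intro c hc hcz
  -- `w = c⁻¹ * (d * c * d⁻¹) ∈ V`
  set w := c⁻¹ * (d * c * d⁻¹) with hw
  have hdV : ∀ v ∈ V, d * v = v * d := fun v hv => (mem_centralizer_iff.mp (hQV hdQ) v hv).symm
  have hwV : w ∈ V := by
    refine hVc w ?_ ?_ ?_
    · exact N.mul_mem (N.inv_mem hc) (hN.conj_mem c hc d)
    · have h1 : Commute c z := hcz
      have h2 : Commute d z := hdz
      exact (((h1.inv_left).mul_left ((h2.mul_left h1).mul_left h2.inv_left))).eq
    · intro v hv
      have h1 : c * v * c⁻¹ ∈ V := hVn c hcz v hv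
      have h2 := hdV _ h1
      have h3 := hdV v hv
      -- d c v c⁻¹ = c v c⁻¹ d
      have h3' : d⁻¹ * v = v * d⁻¹ := (Commute.inv_left (show Commute d v from h3)).eq
      have e1 : w * v = c⁻¹ * (d * c * (d⁻¹ * v)) := by rw [hw]; group
      rw [e1, h3']
      have e2 : c⁻¹ * (d * c * (v * d⁻¹)) = c⁻¹ * (d * (c * v * c⁻¹)) * c * d⁻¹ := by group
      rw [e2, h2, hw]
      group
  have hcw : d * c * d⁻¹ = c * w := by rw [hw]; group
  have hpow : ∀ n : ℕ, d ^ n * c * (d ^ n)⁻¹ = c * w ^ n := by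
    intro n
    induction n with
    | zero => simp
    | succ n ih =>
      have h1 : d * w ^ n = w ^ n * d := (Commute.pow_right (show Commute d w from hdV w hwV) n).eq
      calc d ^ (n + 1) * c * (d ^ (n + 1))⁻¹ = d * (d ^ n * c * (d ^ n)⁻¹) * d⁻¹ := by
            rw [pow_succ']; group
        _ = d * c * w ^ n * d⁻¹ := by rw [ih]; group
        _ = d * c * d⁻¹ * (d * w ^ n) * d⁻¹ := by group
        _ = d * c * d⁻¹ * (w ^ n * d) * d⁻¹ := by rw [h1]
        _ = c * w * w ^ n := by rw [hcw]; group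
        _ = c * w ^ (n + 1) := by rw [mul_assoc, ← pow_succ']
  have h1 := hpow (orderOf d)
  rw [pow_orderOf_eq_one, one_mul, inv_one, mul_one] at h1
  have h2 : w ^ orderOf d = 1 := by
    have : c * w ^ orderOf d = c * 1 := by rw [← h1, mul_one]
    exact mul_left_cancel this
  have h3 : w = 1 := by
    have hod : Odd (orderOf d) := by
      refine hD.odd.of_dvd_nat ?_
      have := orderOf_dvd_natCard (⟨d, hd⟩ : D)
      rwa [← Subgroup.orderOf_coe] at this
    obtain ⟨k, hk⟩ := hV2 ⟨w, hwV⟩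
    have hk' : w ^ 2 ^ k = 1 := congrArg Subtype.val hk
    have h4 : orderOf w ∣ Nat.gcd (orderOf d) (2 ^ k) :=
      Nat.dvd_gcd (orderOf_dvd_of_pow_eq_one h2) (orderOf_dvd_of_pow_eq_one hk')
    have h5 : Nat.gcd (orderOf d) (2 ^ k) = 1 := Nat.Coprime.pow_right k (Nat.coprime_two_right.mpr hod)
    rw [h5] at h4
    exact orderOf_eq_one_iff.mp (Nat.dvd_one.mp h4)
  rw [h3, mul_one] at hcw
  rw [mul_inv_eq_iff_eq_mul] at hcw
  exact hcw

/-- a fixed-point-free involution inverts -/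
theorem conj_eq_inv [Finite Γ] {D : Subgroup Γ} {z : Γ} (hz : z * z = 1)
    (hn : ∀ d ∈ D, z * d * z⁻¹ ∈ D) (hf : ∀ d ∈ D, d * z = z * d → d = 1) :
    ∀ d ∈ D, z * d * z⁻¹ = d⁻¹ := by
  have hz' : z⁻¹ = z := inv_eq_of_mul_eq_one_left hz
  let f : D → D := fun d => ⟨(d : Γ)⁻¹ * (z * d * z⁻¹), D.mul_mem (D.inv_mem d.2) (hn d d.2)⟩
  have hinj : Function.Injective f := by
    intro a b hab
    have h1 : (a : Γ)⁻¹ * (z * a * z⁻¹) = (b : Γ)⁻¹ * (z * b * z⁻¹) := congrArg Subtype.val hab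
    have h2 : ((b : Γ) * (a : Γ)⁻¹) * z = z * ((b : Γ) * (a : Γ)⁻¹) := by
      have h3 : (b : Γ) * (a : Γ)⁻¹ * (z * a * z⁻¹) = z * b * z⁻¹ := by
        rw [mul_assoc, h1]; group
      calc (b : Γ) * (a : Γ)⁻¹ * z = (b : Γ) * (a : Γ)⁻¹ * (z * a * z⁻¹) * z * (a : Γ)⁻¹ := by group
        _ = z * b * z⁻¹ * z * (a : Γ)⁻¹ := by rw [h3]
        _ = z * (b * (a : Γ)⁻¹) := by group
    have h3 := hf _ (D.mul_mem b.2 (D.inv_mem a.2)) h2
    exact (Subtype.ext (mul_inv_eq_one.mp h3)).symm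
  have hsurj : Function.Surjective f := Finite.surjective_of_injective hinj
  intro d hd
  obtain ⟨e, he⟩ := hsurj ⟨d, hd⟩
  have he' : (e : Γ)⁻¹ * (z * e * z⁻¹) = d := congrArg Subtype.val he
  rw [← he', hz']
  have h1 : ((e : Γ)⁻¹ * (z * e * z))⁻¹ = z⁻¹ * (e : Γ)⁻¹ * z⁻¹ * e := by group
  rw [h1, hz']
  calc z * ((e : Γ)⁻¹ * (z * e * z)) * z = z * (e : Γ)⁻¹ * z * e * (z * z) := by group
    _ = z * (e : Γ)⁻¹ * z * e := by rw [hz, mul_one]

/-- **Lemma B.** Two commuting fixed-point-free involutions whose product is fixed-point-free. -/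
theorem eq_bot_of_four [Finite Γ] {D : Subgroup Γ} {z w : Γ} (hz : z * z = 1)
    (hw : w * w = 1)
    (hn : ∀ d ∈ D, z * d * z⁻¹ ∈ D) (hn' : ∀ d ∈ D, w * d * w⁻¹ ∈ D)
    (hf : ∀ d ∈ D, d * z = z * d → d = 1) (hf' : ∀ d ∈ D, d * w = w * d → d = 1)
    (hf'' : ∀ d ∈ D, d * (z * w) = (z * w) * d → d = 1) : D = ⊥ := by
  rw [eq_bot_iff]
  intro d hd
  rw [mem_bot]
  refine hf'' d hd ?_
  have h1 := conj_eq_inv hw hn' hf' d hd
  have h2 := conj_eq_inv hz hn hf _ (D.inv_mem hd)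
  rw [inv_inv, ← h1] at h2
  have h3 : z * w * d * (z * w)⁻¹ = d := by
    calc z * w * d * (z * w)⁻¹ = z * (w * d * w⁻¹) * z⁻¹ := by group
      _ = d := h2
  rw [mul_inv_eq_iff_eq_mul] at h3
  exact h3.symm

/-- the data needed for one involution `x` -/
structure Four (N : Subgroup Γ) (x z w : Γ) : Prop where
  gz : Good N z
  gw : Good N w
  gzw : Good N (z * w)
  zw : z * w = w * z
  xz : x * z = z * x
  xw : x * w = w * x

/-- no element of odd order centralises `C_N(z)` -/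
def Rigid (N : Subgroup Γ) (z : Γ) : Prop :=
  ∀ d : Γ, Odd (orderOf d) → (∀ c ∈ N, c * z = z * c → d * c = c * d) → d = 1

theorem eq_one_of_good [Finite Γ] {N : Subgroup Γ} [N.Normal] {x z : Γ} {D : Subgroup Γ} (hz : Good N z)
    (hr : Rigid N z) (hx : x * x = 1) (hxz : x * z = z * x) (hD : Core x D) {d : Γ} (hd : d ∈ D)
    (hdz : d * z = z * d) : d = 1 := by
  refine hr d ?_ (cent_of_good hz hx hxz hD hd hdz)
  refine hD.odd.of_dvd_nat ?_
  have := orderOf_dvd_natCard (⟨d, hd⟩ : D)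
  rwa [← Subgroup.orderOf_coe] at this

theorem core_eq_bot [Finite Γ] {N : Subgroup Γ} [N.Normal] {x z w : Γ} {D : Subgroup Γ} (h : Four N x z w)
    (h1 : Rigid N z) (h2 : Rigid N w) (h3 : Rigid N (z * w)) (hx : x * x = 1) (hD : Core x D) : D = ⊥ := by
  have hcz : z * x = x * z := h.xz.symm
  have hcw : w * x = x * w := h.xw.symm
  refine eq_bot_of_four h.gz.sq h.gw.sq (hD.conj z hcz) (hD.conj w hcw)
    (fun d hd => eq_one_of_good h.gz h1 hx h.xz hD hd) (fun d hd => eq_one_of_good h.gw h2 hx h.xw hD hd)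
    (fun d hd => eq_one_of_good h.gzw h3 hx ?_ hD hd)
  exact (Commute.mul_right (show Commute x z from h.xz) (show Commute x w from h.xw)).eq

/-- `O(C(x))` is a `Core`. -/
theorem core_centralizer [Finite Γ] (x : Γ) : Core x (Cfsg.centralizerPPrimeCore 2 x) := by
  have hle : ∀ d ∈ Cfsg.centralizerPPrimeCore 2 x, d * x = x * d := by
    rintro _ ⟨d, -, rfl⟩
    exact mem_centralizer_singleton_iff.mp d.2
  refine ⟨?_, hle, ?_⟩
  · rw [← Nat.coprime_two_right]
    unfold Cfsg.centralizerPPrimeCore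
    rw [card_map_of_injective (Subgroup.subtype_injective _)]
    exact Cfsg.Agent.Lib.Cores.pPrimeCore_coprime 2
  · rintro c hc _ ⟨d, hd, rfl⟩
    have hnorm : (Cfsg.pPrimeCore 2 ↥(centralizer ({x} : Set Γ))).Normal := by
      have := Cfsg.Agent.Lib.Cores.pPrimeCore_characteristic (G := ↥(centralizer ({x} : Set Γ))) 2
      infer_instance
    refine ⟨⟨c, mem_centralizer_singleton_iff.mpr hc⟩ * d * (⟨c, mem_centralizer_singleton_iff.mpr hc⟩)⁻¹, ?_, rfl⟩
    exact hnorm.conj_mem d hd _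

theorem centralizer_core_eq_bot [Finite Γ] {N : Subgroup Γ} [N.Normal] {x z w : Γ} (h : Four N x z w)
    (h1 : Rigid N z) (h2 : Rigid N w) (h3 : Rigid N (z * w)) (hx : x * x = 1) :
    Cfsg.centralizerPPrimeCore 2 x = ⊥ :=
  core_eq_bot h h1 h2 h3 hx (core_centralizer x)

end Cfsg.Agent.UGT.LB.Crit
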